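import Cfsg.Agent.MonomialWreath.Wreath
import Cfsg.Agent.Coprime.Basic
import Mathlib.GroupTheory.SpecificGroups.Cyclic
import Mathlib.Algebra.Group.PUnit

/-!
# Solvable groups embed in M-groups
-/

set_option autoImplicit false
set_option linter.style.haveILetI false
set_option linter.unusedSectionVars false

namespace CfsgLib.MonomialWreath

open Cfsg CfsgLib.Char

universe u

/-- Wreath products are functorial in the base. -/
def mapWr (p : ℕ) {N M : Type u} [Group N] [Group M] (f : N →* M) : Wr p N →* Wr p M where
  toFun x := ⟨fun i => f (x.left i), x.right⟩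
  map_one' := SemidirectProduct.ext (funext fun _ => map_one f) rfl
  map_mul' x y := SemidirectProduct.ext (funext fun _ => map_mul f _ _) rfl

theorem mapWr_injective (p : ℕ) {N M : Type u} [Group N] [Group M] {f : N →* M}
    (hf : Function.Injective f) : Function.Injective (mapWr p f) := fun x y h => by
  refine SemidirectProduct.ext (funext fun i => hf ?_) ?_
  · exact congrFun (congrArg SemidirectProduct.left h) i
  · exact congrArg (fun z : Wr p M => z.right) h

/-- A group embeds in the wreath product of a normal subgroup of prime index. -/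
theorem exists_embedding_wr {G : Type u} [Group G] [Finite G] {p : ℕ} [hp : Fact p.Prime]
    (N : Subgroup G) [N.Normal] (hN : N.index = p) :
    ∃ f : G →* Wr p ↥N, Function.Injective f := by
  have hq : Nat.card (G ⧸ N) = p := hN
  have hC : Nat.card (Multiplicative (ZMod p)) = p := by
    rw [Nat.card_congr Multiplicative.toAdd, Nat.card_zmod]
  set e := mulEquivOfPrimeCardEq hq hC
  set ψ : G →* Multiplicative (ZMod p) := e.toMonoidHom.comp (QuotientGroup.mk' N) with hψ
  have hker : ∀ g : G, ψ g = 1 ↔ g ∈ N := fun g => by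
    rw [hψ, MonoidHom.comp_apply, MulEquiv.coe_toMonoidHom, MulEquiv.map_eq_one_iff,
      QuotientGroup.mk'_apply, QuotientGroup.eq_one_iff]
  have hsurj : Function.Surjective ψ := e.surjective.comp (QuotientGroup.mk'_surjective N)
  choose t ht using fun i : ZMod p => hsurj (Multiplicative.ofAdd i)
  have hmem : ∀ (g : G) (i : ZMod p), (t i)⁻¹ * g * t (i - (ψ g).toAdd) ∈ N := fun g i => by
    rw [← hker, map_mul, map_mul, map_inv, ht, ht]
    apply Multiplicative.toAdd.injective
    simp only [toAdd_mul, toAdd_inv, toAdd_ofAdd, toAdd_one]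
    ring
  refine ⟨{ toFun := fun g => ⟨fun i => ⟨_, hmem g i⟩, ψ g⟩
            map_one' := ?_
            map_mul' := ?_ }, ?_⟩
  · refine SemidirectProduct.ext (funext fun i => Subtype.ext ?_) (map_one ψ)
    show (t i)⁻¹ * 1 * t (i - (ψ 1).toAdd) = 1
    simp
  · intro g h
    refine SemidirectProduct.ext (funext fun i => Subtype.ext ?_) (map_mul ψ g h)
    show (t i)⁻¹ * (g * h) * t (i - (ψ (g * h)).toAdd) =
      ((t i)⁻¹ * g * t (i - (ψ g).toAdd)) *
        ((t (i - (ψ g).toAdd))⁻¹ * h * t (i - (ψ g).toAdd - (ψ h).toAdd))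
    rw [map_mul, toAdd_mul, sub_sub]
    group
  · intro g h he
    have h1 : ψ g = ψ h := congrArg SemidirectProduct.right he
    have h2 := congrArg (Subtype.val : N → G) (congrFun (congrArg SemidirectProduct.left he) 0)
    change (t 0)⁻¹ * g * t (0 - (ψ g).toAdd) = (t 0)⁻¹ * h * t (0 - (ψ h).toAdd) at h2
    rw [h1] at h2
    exact mul_left_cancel (mul_right_cancel h2)

/-- **Dade**: every solvable group embeds in an M-group. -/
theorem exists_monomial_over (G : Type u) [Group G] [Finite G] (hs : Group.IsSolvable G) :
    ∃ (M : Type u) (_ : Group M) (_ : Fintype M), IsMonomialGroup M ∧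
      ∃ f : G →* M, Function.Injective f := by
  induction hn : Nat.card G using Nat.strong_induction_on generalizing G with
  | _ n ih =>
    rcases subsingleton_or_nontrivial G with hG | hG
    · refine ⟨PUnit, inferInstance, inferInstance, fun χ hχ => ?_, 1,
        Function.injective_of_subsingleton _⟩
      refine ⟨⊤, 1, funext fun g => ?_⟩
      rw [Subsingleton.elim g 1, IsIrrCharacter.apply_one_eq_one hχ (fun _ _ => rfl), indFun_one,
        Subgroup.index_top, Nat.cast_one, one_mul, MonoidHom.one_apply, Units.val_one]
    haveI := hs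
    obtain ⟨N, hNn, p, hp, hidx⟩ := CfsgLib.Coprime.exists_normal_prime_index (A := G)
    haveI := hNn
    haveI : Fact p.Prime := ⟨hp⟩
    have hlt : Nat.card N < n := by
      rw [← hn, ← N.card_mul_index, hidx]
      exact lt_mul_of_one_lt_right Nat.card_pos hp.one_lt
    obtain ⟨M, _, _, hM, f, hf⟩ := ih _ hlt N inferInstance rfl
    letI : Fintype (Wr p M) := Fintype.ofFinite _
    obtain ⟨g, hg⟩ := exists_embedding_wr N hidx
    exact ⟨Wr p M, inferInstance, inferInstance, isMonomialGroup_wr hM, (mapWr p f).comp g,
      (mapWr_injective p hf).comp hg⟩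

end CfsgLib.MonomialWreath
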