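import Cfsg.Agent.Blocks.CharExtra
import Cfsg.Agent.Char.Induction
import Cfsg.Agent.Char.Linear
import Cfsg.Agent.Char.Constituents

/-!
# Irreducible characters of a power of a group with monomial characters

The product of monomial irreducible characters is monomial and irreducible, and by column
orthogonality every irreducible character of the power is such a product.
-/

set_option autoImplicit false
set_option linter.style.haveILetI false
set_option linter.unusedSectionVars false

namespace CfsgLib.MonomialWreath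

open Cfsg Finset CfsgLib.Char CfsgLib.Block CfsgLib.Block.Chr
open scoped ComplexConjugate Classical

universe u

/-- Every irreducible character is induced from a linear character. -/
def IsMonomialGroup (G : Type u) [Group G] [Fintype G] : Prop :=
  ∀ χ : G → ℂ, Cfsg.IsIrrCharacter G χ →
    ∃ (H : Subgroup G) (lam : ↥H →* ℂˣ), χ = Cfsg.indFun H (fun h => (lam h : ℂ))

variable {ι : Type} [Fintype ι] [DecidableEq ι] {G : Type u} [Group G] [Fintype G]

/-- The product of functions on the factors. -/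
def pfun (φ : ι → G → ℂ) : (ι → G) → ℂ := fun b => ∏ i, φ i (b i)

theorem classInner_pfun (φ ψ : ι → G → ℂ) :
    classInner (pfun φ) (pfun ψ) = ∏ i, classInner (φ i) (ψ i) := by
  simp only [classInner_def, pfun, prod_mul_distrib, map_prod, Nat.card_pi, Nat.cast_prod,
    prod_inv_distrib]
  congr 1
  rw [Fintype.prod_sum]
  exact sum_congr rfl fun b _ => (prod_mul_distrib).symm

/-- The linear character of a product of subgroups. -/
def piLam (H : ι → Subgroup G) (lam : ∀ i, H i →* ℂˣ) : Subgroup.pi Set.univ H →* ℂˣ where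
  toFun x := ∏ i, lam i ⟨(x : ι → G) i, (Subgroup.mem_pi _).1 x.2 i trivial⟩
  map_one' := prod_eq_one fun i _ => map_one (lam i)
  map_mul' x y := by
    rw [← prod_mul_distrib]
    exact prod_congr rfl fun i _ => map_mul (lam i) ⟨(x : ι → G) i, _⟩ ⟨(y : ι → G) i, _⟩

theorem card_pi (H : ι → Subgroup G) :
    Nat.card ↥(Subgroup.pi Set.univ H) = ∏ i, Nat.card (H i) := by
  rw [← Nat.card_pi]
  exact Nat.card_congr
    { toFun := fun x i => ⟨(x : ι → G) i, (Subgroup.mem_pi _).1 x.2 i trivial⟩
      invFun := fun x => ⟨fun i => x i, (Subgroup.mem_pi _).2 fun i _ => (x i).2⟩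
      left_inv := fun x => rfl
      right_inv := fun x => rfl }

theorem indFun_pi (H : ι → Subgroup G) (lam : ∀ i, H i →* ℂˣ) :
    Cfsg.indFun (Subgroup.pi Set.univ H) (fun x => (piLam H lam x : ℂ)) =
      pfun fun i => Cfsg.indFun (H i) fun h => (lam i h : ℂ) := by
  funext b
  simp only [indFun_def, pfun, prod_mul_distrib, prod_inv_distrib, card_pi, Nat.cast_prod]
  congr 1
  rw [Fintype.prod_sum]
  refine sum_congr rfl fun x _ => ?_
  by_cases h : x⁻¹ * b * x ∈ Subgroup.pi Set.univ H
  · rw [extendByZero_of_mem _ h]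
    show ((∏ i, lam i ⟨(x⁻¹ * b * x) i, _⟩ : ℂˣ) : ℂ) = _
    rw [Units.coe_prod]
    refine prod_congr rfl fun i _ => ?_
    exact (extendByZero_of_mem (fun h => (lam i h : ℂ))
      (show (x i)⁻¹ * b i * x i ∈ H i from (Subgroup.mem_pi _).1 h i trivial)).symm
  · rw [extendByZero_of_not_mem _ h]
    rw [Subgroup.mem_pi] at h
    simp only [not_forall] at h
    obtain ⟨i, -, hi⟩ := h
    exact (prod_eq_zero (mem_univ i) (extendByZero_of_not_mem (fun h => (lam i h : ℂ)) hi)).symm

/-- A product of irreducible monomial characters is irreducible and monomial. -/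
theorem exists_irr_pfun (hG : IsMonomialGroup G) (φ : ι → IrrCharacter G) :
    ∃ (H : ι → Subgroup G) (lam : ∀ i, H i →* ℂˣ),
      (∀ i, (φ i : G → ℂ) = Cfsg.indFun (H i) fun h => (lam i h : ℂ)) ∧
      Cfsg.IsIrrCharacter (ι → G) (pfun fun i => (φ i : G → ℂ)) ∧
      (pfun fun i => (φ i : G → ℂ)) =
        Cfsg.indFun (Subgroup.pi Set.univ H) fun x => (piLam H lam x : ℂ) := by
  choose H lam hH using fun i => hG _ (φ i).2
  have he : (pfun fun i => (φ i : G → ℂ)) =
      Cfsg.indFun (Subgroup.pi Set.univ H) fun x => (piLam H lam x : ℂ) := by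
    rw [indFun_pi]
    simp only [hH]
  refine ⟨H, lam, hH, IsCharacter.isIrrCharacter_of_classInner_self ?_ ?_, he⟩
  · rw [he]
    exact IsCharacter.indFun (IsIrrCharacter.isCharacter (isIrrCharacter_ofHom (piLam H lam)))
  · rw [classInner_pfun, prod_eq_one fun i _ => IsIrrCharacter.classInner_self (φ i).2]

/-- Every irreducible character of the power is a product. -/
theorem exists_eq_pfun (hG : IsMonomialGroup G) {θ : (ι → G) → ℂ}
    (hθ : Cfsg.IsIrrCharacter (ι → G) θ) :
    ∃ φ : ι → IrrCharacter G, θ = pfun fun i => (φ i : G → ℂ) := by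
  letI := irrFintype (G := G)
  have hcol : ∀ a : G, ∑ χ : IrrCharacter G, (χ : G → ℂ) 1 * conj ((χ : G → ℂ) a) =
      if a = 1 then (Nat.card G : ℂ) else 0 := fun a => by
    rw [column_orth]
    by_cases ha : a = 1
    · subst ha
      rw [if_pos (IsConj.refl _), if_pos rfl, Subgroup.centralizer_eq_top_iff_subset.2 (by simp),
        Subgroup.card_top]
    · rw [if_neg (mt isConj_one_right.1 ha), if_neg ha]
  have hsum : ∑ φ : ι → IrrCharacter G, classInner θ (pfun fun i => (φ i : G → ℂ)) *
      ∏ i, (φ i : G → ℂ) 1 = θ 1 := by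
    simp only [classInner_def, pfun, map_prod, mul_assoc, sum_mul, ← mul_sum]
    rw [sum_comm]
    simp only [← prod_mul_distrib, ← mul_sum]
    rw [sum_congr rfl fun b _ => by rw [← Fintype.prod_sum (fun i (χ : IrrCharacter G) =>
      conj ((χ : G → ℂ) (b i)) * (χ : G → ℂ) 1)]]
    simp only [mul_comm (conj _), hcol]
    rw [sum_eq_single (1 : ι → G)]
    · simp only [Pi.one_apply, if_true, prod_const, card_univ]
      rw [Nat.card_pi, prod_const, card_univ, Nat.cast_pow, mul_left_comm,
        inv_mul_cancel₀ (pow_ne_zero _ (Nat.cast_ne_zero.2 Nat.card_pos.ne')), mul_one]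
    · intro b _ hb
      obtain ⟨i, hi⟩ := Function.ne_iff.1 hb
      rw [prod_eq_zero (mem_univ i) (if_neg hi), mul_zero]
    · simp
  obtain ⟨φ, -, hne⟩ := exists_ne_zero_of_sum_ne_zero
    (hsum.trans_ne (IsIrrCharacter.apply_one_ne_zero hθ))
  refine ⟨φ, ?_⟩
  by_contra h
  obtain ⟨H, lam, -, hirr, -⟩ := exists_irr_pfun hG φ
  exact left_ne_zero_of_mul hne (IsIrrCharacter.classInner_of_ne hθ hirr h)

/-- A symmetry of a product character is a symmetry of the tuple. -/
theorem eq_of_perm (φ : ι → IrrCharacter G) (σ : Equiv.Perm ι)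
    (h : ∀ b : ι → G, ∏ i, (φ i : G → ℂ) (b (σ i)) = ∏ i, (φ i : G → ℂ) (b i)) (i : ι) :
    φ i = φ (σ i) := by
  by_contra hne
  set T := ∏ j, (φ j : G → ℂ) 1
  have hT : T ≠ 0 := prod_ne_zero_iff.2 fun j _ => irr_one_ne_zero (φ j)
  have hkey : ∀ (j : ι) (a : G) (π : Equiv.Perm ι),
      (∏ k, (φ k : G → ℂ) (Function.update (1 : ι → G) (π j) a (π k))) * (φ j : G → ℂ) 1 =
        T * (φ j : G → ℂ) a := fun j a π => by
    rw [← mul_prod_erase univ (fun k => (φ k : G → ℂ) (Function.update (1 : ι → G) (π j) a (π k)))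
      (mem_univ j), show T = (φ j : G → ℂ) 1 * ∏ k ∈ univ.erase j, (φ k : G → ℂ) 1 from
        (mul_prod_erase univ (fun k => (φ k : G → ℂ) 1) (mem_univ j)).symm, Function.update_self,
      prod_congr rfl fun k hk => by
        rw [Function.update_of_ne (fun e => (mem_erase.1 hk).1 (π.injective e)), Pi.one_apply]]
    ring
  have hprop : ∀ a : G, (φ i : G → ℂ) a =
      ((φ i : G → ℂ) 1 / (φ (σ i) : G → ℂ) 1) * (φ (σ i) : G → ℂ) a := fun a => by
    have h1 := hkey i a σ
    rw [h] at h1
    have h2 := hkey (σ i) a 1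
    simp only [Equiv.Perm.one_apply] at h2
    have h3 := irr_one_ne_zero (φ (σ i))
    have h4 : (φ i : G → ℂ) a * (φ (σ i) : G → ℂ) 1 = (φ i : G → ℂ) 1 * (φ (σ i) : G → ℂ) a :=
      mul_left_cancel₀ hT (by linear_combination (φ i : G → ℂ) 1 * h2 - (φ (σ i) : G → ℂ) 1 * h1)
    field_simp
    linear_combination h4
  have h1 := IsIrrCharacter.classInner_of_ne (φ i).2 (φ (σ i)).2 fun e => hne (Subtype.ext e)
  rw [show (φ i : G → ℂ) = ((φ i : G → ℂ) 1 / (φ (σ i) : G → ℂ) 1) • (φ (σ i) : G → ℂ) from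
    funext hprop, classInner_smul_left, IsIrrCharacter.classInner_self (φ (σ i)).2, mul_one] at h1
  exact div_ne_zero (irr_one_ne_zero _) (irr_one_ne_zero _) h1

end CfsgLib.MonomialWreath
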