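import Cfsg.Agent.MonomialWreath.Power
import Cfsg.Agent.Char.Clifford
import Cfsg.Agent.Char.PermChar
import Mathlib.GroupTheory.SemidirectProduct
import Mathlib.Algebra.Field.ZMod

/-!
# The wreath product of an M-group with a cyclic group of prime order is an M-group
-/

set_option autoImplicit false
set_option linter.style.haveILetI false
set_option linter.unusedSectionVars false

namespace CfsgLib.MonomialWreath

open Cfsg Finset CfsgLib.Char CfsgLib.Block CfsgLib.Block.Chr
open scoped ComplexConjugate Classical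

universe u

/-- Cyclic translation of the coordinates. -/
def shift (p : ℕ) (N : Type u) [Group N] : Multiplicative (ZMod p) →* MulAut (ZMod p → N) where
  toFun c :=
    { toFun := fun f i => f (i - c.toAdd)
      invFun := fun f i => f (i + c.toAdd)
      left_inv := fun f => funext fun i => by simp
      right_inv := fun f => funext fun i => by simp
      map_mul' := fun _ _ => rfl }
  map_one' := MulEquiv.ext fun f => funext fun i => by simp
  map_mul' c d := MulEquiv.ext fun f => funext fun i => by
    show f (i - (c * d).toAdd) = f ((i - c.toAdd) - d.toAdd)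
    rw [toAdd_mul, sub_sub]

/-- The wreath product with a cyclic group of order `p`. -/
abbrev Wr (p : ℕ) (N : Type u) [Group N] : Type u :=
  (ZMod p → N) ⋊[shift p N] Multiplicative (ZMod p)

variable {p : ℕ} [hp : Fact p.Prime] {N : Type u} [Group N] [Fintype N]

instance : Finite (Wr p N) := Finite.of_equiv _ SemidirectProduct.equivProd.symm

theorem sum_hom (c : Multiplicative (ZMod p)) :
    ∑ᶠ ε : Multiplicative (ZMod p) →* ℂˣ, (ε c : ℂ) = if c = 1 then (p : ℂ) else 0 := by
  haveI : NeZero (Monoid.exponent (Multiplicative (ZMod p)) : ℂ) :=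
    ⟨Nat.cast_ne_zero.2 Monoid.exponent_ne_zero_of_finite⟩
  have hcard : Nat.card (Multiplicative (ZMod p) →* ℂˣ) = p := by
    rw [CommGroup.card_monoidHom_of_hasEnoughRootsOfUnity (Multiplicative (ZMod p)) ℂ,
      Nat.card_congr Multiplicative.toAdd, Nat.card_zmod]
  haveI : Finite (Multiplicative (ZMod p) →* ℂˣ) :=
    Nat.finite_of_card_ne_zero (by rw [hcard]; exact hp.out.ne_zero)
  letI := Fintype.ofFinite (Multiplicative (ZMod p) →* ℂˣ)
  rw [finsum_eq_sum_of_fintype]
  split_ifs with hc
  · subst hc
    simp only [map_one, Units.val_one, sum_const, card_univ, nsmul_eq_mul, mul_one]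
    rw [← Nat.card_eq_fintype_card, hcard]
  · obtain ⟨δ, hδ⟩ := CommGroup.exists_apply_ne_one_of_hasEnoughRootsOfUnity
      (Multiplicative (ZMod p)) ℂ (a := c) hc
    have h1 : (δ c : ℂ) * ∑ ε : Multiplicative (ZMod p) →* ℂˣ, (ε c : ℂ) =
        ∑ ε : Multiplicative (ZMod p) →* ℂˣ, (ε c : ℂ) := by
      rw [mul_sum]
      refine Fintype.sum_equiv (Equiv.mulLeft δ) _ _ fun ε => ?_
      simp
    by_contra hne
    exact hδ (Units.ext ((mul_eq_right₀ hne).1 h1))

theorem isMonomialGroup_wr [Fintype (Wr p N)] (hN : IsMonomialGroup N) :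
    IsMonomialGroup (Wr p N) := by
  intro χ hχ
  let A : Subgroup (Wr p N) := (SemidirectProduct.rightHom (φ := shift p N)).ker
  haveI : A.Normal := MonoidHom.normal_ker _
  have hA : ∀ x : Wr p N, x ∈ A ↔ x.right = 1 := fun x => Iff.rfl
  haveI : Fintype A := Fintype.ofFinite A
  let eA : A ≃* (ZMod p → N) :=
    { toFun := fun x => (x : Wr p N).left
      invFun := fun b => ⟨SemidirectProduct.inl b, rfl⟩
      left_inv := fun x => Subtype.ext (SemidirectProduct.ext rfl ((hA x).1 x.2).symm)
      right_inv := fun b => rfl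
      map_mul' := fun x y => by
        show ((x : Wr p N) * (y : Wr p N)).left = _
        rw [SemidirectProduct.mul_left, (hA x).1 x.2, map_one, MulAut.one_apply] }
  obtain ⟨θ, hθ, hc⟩ := exists_constituent_restrict (N := A) hχ
  obtain ⟨φ, hφ⟩ := exists_eq_pfun hN
    (IsIrrCharacter.comp_surjective hθ eA.symm.toMonoidHom eA.symm.surjective)
  have hθ' : ∀ x : A, θ x = ∏ i, (φ i : N → ℂ) ((x : Wr p N).left i) := fun x => by
    have h := congrFun hφ (eA x)
    simp only [MulEquiv.coe_toMonoidHom, MulEquiv.symm_apply_apply, pfun] at h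
    exact h
  have hconj : ∀ (g : Wr p N) (x : A), conjOn g θ x =
      ∏ i, (φ i : N → ℂ) ((x : Wr p N).left (i - g.right.toAdd)) := fun g x => by
    rw [conjOn_apply, hθ']
    refine prod_congr rfl fun i _ => ?_
    have h1 : (g * (x : Wr p N) * g⁻¹).left i =
        g.left i * (x : Wr p N).left (i - g.right.toAdd) * (g.left i)⁻¹ := by
      simp only [SemidirectProduct.mul_left, SemidirectProduct.mul_right, SemidirectProduct.inv_left,
        (hA x).1 x.2, mul_one]
      rw [← MulAut.mul_apply, ← map_mul, mul_inv_cancel, map_one, MulAut.one_apply]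
      rfl
    rw [h1]
    exact isClassFunction_irr (φ i) _ _
  have hχθ : classInner (Cfsg.indFun A θ) χ ≠ 0 := by
    rw [classInner_indFun θ (IsIrrCharacter.isClassFunction hχ)]
    intro h0
    apply hc
    rw [← classInner_conj, h0, map_zero]
  by_cases hconst : ∀ i, φ i = φ 0
  · obtain ⟨H₀, lam₀, h₀⟩ := hN _ (φ 0).2
    let K : Subgroup (Wr p N) :=
      { carrier := {x | ∀ i, x.left i ∈ H₀}
        one_mem' := fun i => H₀.one_mem
        mul_mem' := fun {x y} hx hy i => H₀.mul_mem (hx i) (hy _)
        inv_mem' := fun {x} hx i => by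
          rw [SemidirectProduct.inv_left]
          exact H₀.inv_mem (hx _) }
    let K₀ : Subgroup (Wr p N) := K ⊓ A
    haveI : Fintype K := Fintype.ofFinite K
    let μ : K →* ℂˣ :=
      { toFun := fun x => ∏ i, lam₀ ⟨(x : Wr p N).left i, x.2 i⟩
        map_one' := prod_eq_one fun i _ => map_one lam₀
        map_mul' := fun x y => by
          rw [show (∏ i, lam₀ ⟨(y : Wr p N).left i, y.2 i⟩) =
            ∏ i, lam₀ ⟨(y : Wr p N).left (i - (x : Wr p N).right.toAdd), y.2 _⟩ from
              (Fintype.prod_equiv (Equiv.subRight (x : Wr p N).right.toAdd) _ _ fun i => rfl).symm,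
            ← prod_mul_distrib]
          exact prod_congr rfl fun i _ => map_mul lam₀ ⟨(x : Wr p N).left i, x.2 i⟩
            ⟨(y : Wr p N).left (i - (x : Wr p N).right.toAdd), y.2 _⟩ }
    let ρ : K →* Multiplicative (ZMod p) := SemidirectProduct.rightHom.comp K.subtype
    haveI : NeZero (Monoid.exponent (Multiplicative (ZMod p)) : ℂ) :=
      ⟨Nat.cast_ne_zero.2 Monoid.exponent_ne_zero_of_finite⟩
    have hEcard : Nat.card (Multiplicative (ZMod p) →* ℂˣ) = p := by
      rw [CommGroup.card_monoidHom_of_hasEnoughRootsOfUnity (Multiplicative (ZMod p)) ℂ,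
        Nat.card_congr Multiplicative.toAdd, Nat.card_zmod]
    haveI : Finite (Multiplicative (ZMod p) →* ℂˣ) :=
      Nat.finite_of_card_ne_zero (by rw [hEcard]; exact hp.out.ne_zero)
    letI := Fintype.ofFinite (Multiplicative (ZMod p) →* ℂˣ)
    let Ψ : (Multiplicative (ZMod p) →* ℂˣ) → Wr p N → ℂ := fun ε =>
      Cfsg.indFun K fun x => ((μ * ε.comp ρ) x : ℂ)
    have hΨ : ∀ ε, Cfsg.IsCharacter (Wr p N) (Ψ ε) := fun ε =>
      IsCharacter.indFun (IsIrrCharacter.isCharacter (isIrrCharacter_ofHom _))
    -- the sum of the extensions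
    have hsum : Cfsg.indFun A θ = ∑ ε, Ψ ε := by
      funext g
      rw [Finset.sum_apply]
      simp only [Ψ, indFun_def]
      rw [← mul_sum, sum_comm]
      have hext : ∀ z : Wr p N, ∑ ε : Multiplicative (ZMod p) →* ℂˣ,
          extendByZero K (fun x => ((μ * ε.comp ρ) x : ℂ)) z =
            if h : z ∈ K₀ then (p : ℂ) * (μ ⟨z, h.1⟩ : ℂ) else 0 := fun z => by
        by_cases hz : z ∈ K
        · simp only [extendByZero_of_mem _ hz, MonoidHom.mul_apply, MonoidHom.comp_apply,
            Units.val_mul, ← mul_sum]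
          rw [← finsum_eq_sum_of_fintype, sum_hom]
          by_cases hzA : z ∈ A
          · rw [dif_pos (Subgroup.mem_inf.2 ⟨hz, hzA⟩), if_pos (show ρ ⟨z, hz⟩ = 1 from (hA z).1 hzA),
              mul_comm]
          · rw [dif_neg fun h => hzA h.2,
              if_neg (show ¬ ρ ⟨z, hz⟩ = 1 from fun h => hzA ((hA z).2 h)), mul_zero]
        · rw [dif_neg fun h => hz h.1]
          exact sum_eq_zero fun ε _ => extendByZero_of_not_mem _ hz
      have hθA : ∀ z : Wr p N, extendByZero A θ z = ((Nat.card H₀ : ℂ) ^ p)⁻¹ *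
          ∑ b : ZMod p → N, if h : (SemidirectProduct.inl b)⁻¹ * z * SemidirectProduct.inl b ∈ K₀
            then (μ ⟨_, h.1⟩ : ℂ) else 0 := fun z => by
        by_cases hz : z ∈ A
        · rw [extendByZero_of_mem _ hz, hθ']
          have h1 := congrFun (indFun_pi (fun _ : ZMod p => H₀) fun _ => lam₀) z.left
          simp only [pfun, indFun_def, card_pi, prod_const, card_univ, ZMod.card,
            Nat.cast_pow] at h1
          rw [prod_congr rfl fun i (_ : i ∈ univ) => by rw [hconst i, h₀, indFun_def], ← h1]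
          congr 1
          refine sum_congr rfl fun b _ => ?_
          have hleft : ((SemidirectProduct.inl b)⁻¹ * z * SemidirectProduct.inl b : Wr p N).left =
              b⁻¹ * z.left * b := by
            simp [SemidirectProduct.mul_left, (hA z).1 hz]
          have hright : ((SemidirectProduct.inl b)⁻¹ * z * SemidirectProduct.inl b : Wr p N).right =
              1 := by
            simp [SemidirectProduct.mul_right, (hA z).1 hz]
          by_cases hb : b⁻¹ * z.left * b ∈ Subgroup.pi Set.univ fun _ : ZMod p => H₀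
          · have hmem : ((SemidirectProduct.inl b)⁻¹ * z * SemidirectProduct.inl b : Wr p N) ∈ K₀ := by
              refine Subgroup.mem_inf.2 ⟨?_, (hA _).2 hright⟩
              intro i
              rw [hleft]
              exact (Subgroup.mem_pi _).1 hb i trivial
            rw [extendByZero_of_mem _ hb, dif_pos hmem]
            show ((∏ i, lam₀ ⟨(b⁻¹ * z.left * b) i, _⟩ : ℂˣ) : ℂ) = _
            refine congrArg Units.val (prod_congr rfl fun i _ => congrArg lam₀ (Subtype.ext ?_))
            exact (congrFun hleft i).symm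
          · rw [extendByZero_of_not_mem _ hb, dif_neg fun h => hb ((Subgroup.mem_pi _).2
              fun i _ => by rw [← hleft]; exact h.1 i)]
        · have hnot : ∀ b : ZMod p → N,
              ((SemidirectProduct.inl b)⁻¹ * z * SemidirectProduct.inl b : Wr p N) ∉ K₀ := fun b h => by
            refine hz ((hA z).2 ?_)
            have h2 := (hA _).1 (Subgroup.mem_inf.1 h).2
            simpa [SemidirectProduct.mul_right] using h2
          rw [extendByZero_of_not_mem _ hz, sum_eq_zero fun b _ => dif_neg (hnot b), mul_zero]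
      have hAcard : Nat.card A = Nat.card (ZMod p → N) := Nat.card_congr eA.toEquiv
      have hKcard : Nat.card K = Nat.card H₀ ^ p * p := by
        rw [Nat.card_congr (α := K) (β := (ZMod p → H₀) × Multiplicative (ZMod p))
          { toFun := fun x => (fun i => ⟨(x : Wr p N).left i, x.2 i⟩, (x : Wr p N).right)
            invFun := fun x => ⟨⟨fun i => x.1 i, x.2⟩, fun i => (x.1 i).2⟩
            left_inv := fun x => rfl
            right_inv := fun x => rfl }, Nat.card_prod, Nat.card_pi, prod_const, card_univ,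
          ZMod.card, Nat.card_congr Multiplicative.toAdd, Nat.card_zmod]
      simp only [hθA, hext, ← mul_sum]
      have hshift : ∀ b : ZMod p → N,
          ∑ x : Wr p N, (if h : (SemidirectProduct.inl b)⁻¹ * (x⁻¹ * g * x) * SemidirectProduct.inl b ∈ K₀
            then (μ ⟨_, h.1⟩ : ℂ) else 0) =
          ∑ x : Wr p N, (if h : x⁻¹ * g * x ∈ K₀ then (μ ⟨_, h.1⟩ : ℂ) else 0) := fun b =>
        Fintype.sum_equiv (Equiv.mulRight (SemidirectProduct.inl b : Wr p N)) _
          (fun x => if h : x⁻¹ * g * x ∈ K₀ then (μ ⟨_, h.1⟩ : ℂ) else 0) fun x => by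
            simp only [Equiv.coe_mulRight, mul_inv_rev, mul_assoc]
      rw [sum_comm, sum_congr rfl fun b _ => hshift b, sum_const, card_univ, nsmul_eq_mul, hAcard,
        hKcard, Nat.card_eq_fintype_card (α := ZMod p → N)]
      have h3 : ∑ x : Wr p N, (if h : x⁻¹ * g * x ∈ K₀ then (p : ℂ) * (μ ⟨_, h.1⟩ : ℂ) else 0) =
          (p : ℂ) * ∑ x : Wr p N, (if h : x⁻¹ * g * x ∈ K₀ then (μ ⟨_, h.1⟩ : ℂ) else 0) := by
        rw [mul_sum]
        exact sum_congr rfl fun x _ => by split_ifs <;> simp
      rw [h3]
      have hN0 : (Fintype.card (ZMod p → N) : ℂ) ≠ 0 := Nat.cast_ne_zero.2 Fintype.card_ne_zero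
      have hH0 : (Nat.card H₀ : ℂ) ^ p ≠ 0 := pow_ne_zero _ (Nat.cast_ne_zero.2 Nat.card_pos.ne')
      have hp0 : (p : ℂ) ≠ 0 := Nat.cast_ne_zero.2 hp.out.ne_zero
      push_cast
      field_simp
    have hinertia : inertia θ = ⊤ := by
      refine (Subgroup.eq_top_iff' _).2 fun g => (mem_inertia _ g).2 (funext fun x => ?_)
      rw [hconj, hθ']
      exact Fintype.prod_equiv (Equiv.subRight g.right.toAdd) _ _ fun i => by
        rw [hconst i, hconst (Equiv.subRight g.right.toAdd i)]
        rfl
    have hAidx : (Nat.card (Wr p N) : ℂ) / Nat.card A = (p : ℂ) := by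
      rw [div_eq_iff (Nat.cast_ne_zero.2 Nat.card_pos.ne'), SemidirectProduct.card,
        Nat.card_congr eA.toEquiv, Nat.card_congr Multiplicative.toAdd, Nat.card_zmod]
      push_cast
      ring
    have hnorm : classInner (Cfsg.indFun A θ) (Cfsg.indFun A θ) = (p : ℂ) := by
      rw [classInner_indFun_self hθ, hinertia, Subgroup.card_top, hAidx]
    have hnat : ∀ ε δ, ∃ n : ℕ, classInner (Ψ ε) (Ψ δ) = n := fun ε δ =>
      IsCharacter.exists_classInner_eq_natCast' (hΨ ε) (hΨ δ)
    choose m hm using hnat
    have hdiag : ∀ ε, 1 ≤ m ε ε := fun ε => by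
      refine Nat.one_le_iff_ne_zero.2 fun h0 => ?_
      have h1 := congrFun (classInner_self_eq_zero ((hm ε ε).trans (by rw [h0, Nat.cast_zero]))) 1
      simp only [Ψ, indFun_one, map_one, Units.val_one, mul_one, Pi.zero_apply] at h1
      exact Subgroup.index_ne_zero_of_finite (Nat.cast_eq_zero.1 h1)
    have htot : ∑ ε, ∑ δ, m ε δ = p := by
      rw [hsum, classInner_sum_left] at hnorm
      simp only [classInner_sum_right, hm] at hnorm
      exact_mod_cast hnorm
    have hone : ∀ ε, m ε ε = 1 := fun ε => by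
      by_contra hne
      have h1 : ∑ δ : Multiplicative (ZMod p) →* ℂˣ, 1 < ∑ δ, m δ δ :=
        sum_lt_sum (fun δ _ => hdiag δ)
          ⟨ε, mem_univ ε, lt_of_le_of_ne (hdiag ε) (Ne.symm hne)⟩
      have h2 : ∑ δ, m δ δ ≤ ∑ δ, ∑ δ', m δ δ' :=
        sum_le_sum fun δ _ => single_le_sum (fun _ _ => Nat.zero_le _) (mem_univ δ)
      rw [sum_const, card_univ, ← Nat.card_eq_fintype_card, hEcard, smul_eq_mul, mul_one] at h1
      omega
    rw [hsum, classInner_sum_left] at hχθ
    obtain ⟨ε, -, hε⟩ := exists_ne_zero_of_sum_ne_zero hχθ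
    refine ⟨K, μ * ε.comp ρ, ?_⟩
    have hirr : Cfsg.IsIrrCharacter (Wr p N) (Ψ ε) :=
      IsCharacter.isIrrCharacter_of_classInner_self (hΨ ε) (by rw [hm, hone, Nat.cast_one])
    by_contra hne
    exact hε (IsIrrCharacter.classInner_of_ne hirr hχ fun h => hne h.symm)
  · have hle : inertia θ ≤ A := fun g hg => by
      refine (hA g).2 (by_contra fun hg1 => hconst fun j => ?_)
      have hc0 : g.right.toAdd ≠ 0 := fun h => hg1 (Multiplicative.toAdd.injective h)
      have hper : ∀ i, φ i = φ (i - g.right.toAdd) := fun i =>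
        eq_of_perm φ (Equiv.subRight g.right.toAdd) (fun b => by
          have h := congrFun ((mem_inertia _ g).1 hg) ⟨SemidirectProduct.inl b, rfl⟩
          rw [hconj, hθ'] at h
          exact h) i
      have hk : ∀ (k : ℕ) i, φ i = φ (i - (k : ZMod p) * g.right.toAdd) := fun k => by
        induction k with
        | zero => intro i; simp
        | succ k ih => intro i; rw [ih i, hper]; push_cast; ring_nf
      rw [hk (j / g.right.toAdd).val j, ZMod.natCast_zmod_val, div_mul_cancel₀ _ hc0, sub_self]
    obtain ⟨H, lam, -, -, he⟩ := exists_irr_pfun hN φ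
    let K₀ : Subgroup A := (Subgroup.pi Set.univ H).comap eA.toMonoidHom
    let lam₁ : K₀ →* ℂˣ := (piLam H lam).comp
      { toFun := fun x => ⟨eA (x : A), x.2⟩
        map_one' := Subtype.ext (map_one eA)
        map_mul' := fun x y => Subtype.ext (map_mul eA _ _) }
    have hθK : θ = Cfsg.indFun K₀ fun x => (lam₁ x : ℂ) := by
      funext x
      have h := congrFun he (eA x)
      rw [hθ']
      refine h.trans ?_
      rw [indFun_def, indFun_def]
      congr 1
      · rw [Nat.card_congr (α := K₀) (β := ↥(Subgroup.pi Set.univ H))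
          { toFun := fun x => ⟨eA (x : A), x.2⟩
            invFun := fun y => ⟨eA.symm y, show eA (eA.symm (y : ZMod p → N)) ∈ _ by
              rw [MulEquiv.apply_symm_apply]; exact y.2⟩
            left_inv := fun x => Subtype.ext (MulEquiv.symm_apply_apply _ _)
            right_inv := fun y => Subtype.ext (MulEquiv.apply_symm_apply _ _) }]
      · refine (Fintype.sum_equiv eA.toEquiv _ _ fun a => ?_).symm
        by_cases ha : a⁻¹ * x * a ∈ K₀
        · have hb : (eA a)⁻¹ * eA x * eA a ∈ Subgroup.pi Set.univ H := by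
            rw [← map_inv, ← map_mul, ← map_mul]; exact ha
          simp only [MulEquiv.toEquiv_eq_coe, EquivLike.coe_coe]
          rw [extendByZero_of_mem _ ha, extendByZero_of_mem _ hb]
          refine congrArg (fun y => ((piLam H lam y : ℂˣ) : ℂ)) (Subtype.ext ?_)
          simp
        · simp only [MulEquiv.toEquiv_eq_coe, EquivLike.coe_coe]
          rw [extendByZero_of_not_mem _ ha, extendByZero_of_not_mem _ ?_]
          intro hb
          rw [← map_inv, ← map_mul, ← map_mul] at hb
          exact ha hb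
    have hirr := isIrrCharacter_indFun_of_inertia_le hθ hle
    have hχeq : χ = Cfsg.indFun A θ := by
      by_contra hne
      exact hχθ (IsIrrCharacter.classInner_of_ne hirr hχ fun h => hne h.symm)
    let eK : K₀.map A.subtype ≃* K₀ :=
      (Subgroup.equivMapOfInjective K₀ A.subtype A.subtype_injective).symm
    refine ⟨K₀.map A.subtype, lam₁.comp eK.toMonoidHom, ?_⟩
    rw [hχeq, hθK, ← indFun_indFun_map K₀]
    refine congrArg (Cfsg.indFun A) (congrArg (Cfsg.indFun K₀) (funext fun x => ?_))
    refine congrArg (fun y => ((lam₁ y : ℂˣ) : ℂ)) ?_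
    exact ((Subgroup.equivMapOfInjective K₀ A.subtype A.subtype_injective).symm_apply_apply x).symm

end CfsgLib.MonomialWreath
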